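import Cfsg.Agent.Classification.RTwo.UThreeThree
import Cfsg.Agent.S0283
import Cfsg.Agent.SmallSimple.S1000.PSLFacts
import Cfsg.Agent.H820.SL32
import Cfsg.Agent.H819.U33.Trip

/-!
# S5525, piece A1 (helper277, data of helper604): `U₃(3)` is generated by a triple `Trip u y x`
-/

set_option autoImplicit false
set_option linter.unusedSimpArgs false

namespace Cfsg.Agent.H277.U33

open Matrix Cfsg Cfsg.Agent.H819.U33 Cfsg.Agent.Classification.RTwo.UThreeThree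

/-! ### `Trip` -/

section trip

variable {K L : Type*} [Group K] [Group L] {u y x : K}

/-- images under homomorphisms which do not kill `u` and `x` -/
theorem trip_map (h : Trip u y x) (φ : K →* L) (hu : φ u ≠ 1) (hx : φ x ≠ 1) : Trip (φ u) (φ y) (φ x) where
  u7 := by rw [← map_pow, h.u7, map_one]
  u1 := hu
  y3 := by rw [← map_pow, h.y3, map_one]
  x3 := by rw [← map_pow, h.x3, map_one]
  x1 := hx
  yu := by have := congrArg φ h.yu; simpa only [map_mul, map_inv, map_pow] using this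
  xy := by have := congrArg φ h.xy; simpa only [map_mul, map_inv, map_pow] using this
  rel := by have := congrArg φ h.rel; simpa only [map_mul, map_inv, map_pow] using this
  q3 := by have := congrArg φ h.q3; simpa only [map_mul, map_inv, map_pow, map_one] using this
  qx := by have := congrArg φ h.qx; simpa only [map_mul, map_inv, map_pow] using this
  yq := by have := congrArg φ h.yq; simpa only [map_mul, map_inv, map_pow] using this
  xw := by have := congrArg φ h.xw; simpa only [map_mul, map_inv, map_pow] using this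
  yw := by have := congrArg φ h.yw; simpa only [map_mul, map_inv, map_pow] using this
  qw := by have := congrArg φ h.qw; simpa only [map_mul, map_inv, map_pow] using this

theorem trip_u (h : Trip u y x) : u ∉ Subgroup.center K := by
  intro hc
  have h1 := h.yu
  rw [mul_assoc, ← Subgroup.mem_center_iff.1 hc y, inv_mul_cancel_left, sq] at h1
  exact h.u1 (mul_eq_left.1 h1.symm)

theorem trip_x (h : Trip u y x) : x ∉ Subgroup.center K := by
  intro hc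
  have h1 := h.xw
  rw [mul_assoc, ← Subgroup.mem_center_iff.1 hc (u * x * u⁻¹ * x⁻¹ * u), inv_mul_cancel_left] at h1
  have h2 : x * x = 1 := by
    nth_rewrite 2 [h1]
    exact mul_inv_cancel x
  have h3 := h.x3
  rw [pow_succ, sq, h2, one_mul] at h3
  exact h.x1 h3

/-- passage to the quotient by the centre -/
theorem trip_center (h : Trip u y x) :
    Trip (QuotientGroup.mk' (Subgroup.center K) u) (QuotientGroup.mk' (Subgroup.center K) y)
      (QuotientGroup.mk' (Subgroup.center K) x) :=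
  trip_map h _ (fun h1 => trip_u h ((QuotientGroup.eq_one_iff u).1 h1))
    (fun h1 => trip_x h ((QuotientGroup.eq_one_iff x).1 h1))

/-- the 3-part of the group generated -/
theorem trip_dvd [Finite K] (h : Trip u y x) (H : Subgroup K) (hu : u ∈ H) (hy : y ∈ H) (hx : x ∈ H) :
    27 ∣ Nat.card H := by
  have : Fact (Nat.Prime 3) := ⟨Nat.prime_three⟩
  set q := u⁻¹ * x⁻¹ * u⁻¹ ^ 3 * x⁻¹ * u⁻¹ with hq
  have hqH : q ∈ H := by
    rw [hq]
    exact H.mul_mem (H.mul_mem (H.mul_mem (H.mul_mem (H.inv_mem hu) (H.inv_mem hx)) (H.pow_mem (H.inv_mem hu) 3))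
      (H.inv_mem hx)) (H.inv_mem hu)
  have xy := h.xy
  have qx := h.qx
  have yq := h.yq
  have q3 := h.q3
  rw [← hq] at qx yq q3
  have hz : ∀ a : K, a ^ 3 = 1 → IsPGroup 3 (Subgroup.zpowers a) := by
    intro a ha
    rintro ⟨_, k, rfl⟩
    refine ⟨1, Subtype.ext ?_⟩
    change (a ^ k) ^ 3 ^ 1 = 1
    rw [pow_one, ← zpow_natCast, ← _root_.zpow_mul, mul_comm, _root_.zpow_mul, zpow_natCast, ha, _root_.one_zpow]
  -- `q y q⁻¹ = y x⁻¹`
  have yq' : q * y * q⁻¹ = y * x⁻¹ := by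
    have e1 : y = q * (y * x) * q⁻¹ := by rw [← yq]; group
    have e2 : q * (y * x) * q⁻¹ = (q * y * q⁻¹) * (q * x * q⁻¹) := by group
    rw [e2, qx, mul_inv_cancel_right] at e1
    rw [eq_mul_inv_iff_mul_eq]
    exact e1.symm
  set P1 := Subgroup.zpowers x
  set P2 := Subgroup.zpowers x ⊔ Subgroup.zpowers y with hP2
  set P3 := P2 ⊔ Subgroup.zpowers q with hP3
  have hxP : x ∈ P2 := Subgroup.mem_sup_left (Subgroup.mem_zpowers x)
  have hyP : y ∈ P2 := Subgroup.mem_sup_right (Subgroup.mem_zpowers y)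
  have i1 : IsPGroup 3 P1 := hz x h.x3
  have n2 : Subgroup.zpowers y ≤ Subgroup.normalizer ((Subgroup.zpowers x : Subgroup K) : Set K) := by
    rw [Subgroup.zpowers_le]
    apply Subgroup.centralizer_le_normalizer
    rw [Subgroup.mem_centralizer_iff]
    rintro _ ⟨k, rfl⟩
    have h1 : Commute x y := xy
    exact (h1.zpow_left k).eq
  have i2 : IsPGroup 3 P2 := IsPGroup.to_sup_of_normal_left' (hz x h.x3) (hz y h.y3) n2
  have n3 : Subgroup.zpowers q ≤ Subgroup.normalizer ((P2 : Subgroup K) : Set K) := by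
    rw [Subgroup.zpowers_le, Subgroup.mem_normalizer_iff]
    have a1 : P2 ≤ P2.comap (MulAut.conj q).toMonoidHom := by
      rw [hP2]
      refine sup_le ?_ ?_
      · rw [Subgroup.zpowers_le]
        change q * x * q⁻¹ ∈ P2
        rw [qx, mul_inv_cancel_right]
        exact hxP
      · rw [Subgroup.zpowers_le]
        change q * y * q⁻¹ ∈ P2
        rw [yq']
        exact P2.mul_mem hyP (P2.inv_mem hxP)
    have a2 : P2 ≤ P2.comap (MulAut.conj q⁻¹).toMonoidHom := by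
      rw [hP2]
      refine sup_le ?_ ?_
      · rw [Subgroup.zpowers_le]
        change q⁻¹ * x * q⁻¹⁻¹ ∈ P2
        rw [inv_inv, mul_assoc, ← qx, inv_mul_cancel_left]
        exact hxP
      · rw [Subgroup.zpowers_le]
        change q⁻¹ * y * q⁻¹⁻¹ ∈ P2
        rw [inv_inv, yq]
        exact P2.mul_mem hyP hxP
    intro g
    constructor
    · intro hg
      exact a1 hg
    · intro hg
      have h1 := a2 hg
      change q⁻¹ * (q * g * q⁻¹) * q⁻¹⁻¹ ∈ P2 at h1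
      have e : q⁻¹ * (q * g * q⁻¹) * q⁻¹⁻¹ = g := by group
      rwa [e] at h1
  have i3 : IsPGroup 3 P3 := IsPGroup.to_sup_of_normal_left' i2 (hz q q3) n3
  -- the chain is strict
  have s1 : (⊥ : Subgroup K) < P1 := bot_lt_iff_ne_bot.2 (fun e => h.x1 (by
    have h1 : x ∈ (⊥ : Subgroup K) := e ▸ Subgroup.mem_zpowers x
    exact Subgroup.mem_bot.1 h1))
  have nq : q * y ≠ y * q := by
    intro e
    rw [mul_assoc, ← e, inv_mul_cancel_left] at yq
    exact h.x1 (mul_eq_left.1 yq.symm)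
  have s2 : P1 < P2 := by
    refine lt_of_le_of_ne le_sup_left fun e => nq ?_
    have h1 : y ∈ P1 := e ▸ hyP
    obtain ⟨k, hk⟩ := h1
    have h2 : Commute q x := qx
    have h3 := (h2.zpow_right k).eq
    simp only at hk
    rwa [hk] at h3
  have s3 : P2 < P3 := by
    refine lt_of_le_of_ne le_sup_left fun e => nq ?_
    have h1 : q ∈ P2 := by
      rw [e]
      exact Subgroup.mem_sup_right (Subgroup.mem_zpowers q)
    have h2 : P2 ≤ Subgroup.centralizer {y} := by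
      rw [hP2]
      refine sup_le ?_ ?_
      · rw [Subgroup.zpowers_le, Subgroup.mem_centralizer_singleton_iff]
        exact xy
      · rw [Subgroup.zpowers_le, Subgroup.mem_centralizer_singleton_iff]
    exact (Subgroup.mem_centralizer_singleton_iff.1 (h2 h1))
  obtain ⟨a, ha⟩ := IsPGroup.iff_card.1 i1
  obtain ⟨b, hb⟩ := IsPGroup.iff_card.1 i2
  obtain ⟨c, hc⟩ := IsPGroup.iff_card.1 i3
  have hlt : ∀ {A B : Subgroup K}, A < B → Nat.card A < Nat.card B := by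
    intro A B hAB
    by_contra hcon
    exact hAB.ne (Subgroup.eq_of_le_of_card_ge hAB.le (not_lt.1 hcon))
  have c1 := hlt s1
  have c2 := hlt s2
  have c3 := hlt s3
  rw [Subgroup.card_bot, ha] at c1
  rw [ha, hb] at c2
  rw [hb, hc] at c3
  have d1 : a ≠ 0 := by
    rintro rfl
    norm_num at c1
  have d2 : a < b := (Nat.pow_lt_pow_iff_right (by norm_num)).1 c2
  have d3 : b < c := (Nat.pow_lt_pow_iff_right (by norm_num)).1 c3
  have h27 : 27 ∣ Nat.card P3 := by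
    rw [hc, show (27 : ℕ) = 3 ^ 3 by norm_num]
    exact pow_dvd_pow 3 (by omega)
  refine h27.trans (Subgroup.card_dvd_of_le ?_)
  refine sup_le (sup_le ?_ ?_) ?_
  · exact Subgroup.zpowers_le.2 hx
  · exact Subgroup.zpowers_le.2 hy
  · exact Subgroup.zpowers_le.2 hqH

end trip

/-! ### the matrices -/

section mats

/-- order 7 -/
def mU : Matrix (Fin 3) (Fin 3) K9 := !![⟨0,0⟩,⟨0,0⟩,⟨0,1⟩; ⟨1,1⟩,⟨1,1⟩,⟨0,0⟩; ⟨1,1⟩,⟨2,2⟩,⟨0,0⟩]
/-- its inverse -/
def mUi : Matrix (Fin 3) (Fin 3) K9 := !![⟨0,0⟩,⟨1,2⟩,⟨1,2⟩; ⟨0,0⟩,⟨1,2⟩,⟨2,1⟩; ⟨0,2⟩,⟨0,0⟩,⟨0,0⟩]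
/-- order 3 -/
def mY : Matrix (Fin 3) (Fin 3) K9 := !![⟨0,1⟩,⟨1,0⟩,⟨1,2⟩; ⟨2,1⟩,⟨0,1⟩,⟨0,1⟩; ⟨2,0⟩,⟨1,1⟩,⟨0,1⟩]
/-- its inverse -/
def mYi : Matrix (Fin 3) (Fin 3) K9 := !![⟨0,2⟩,⟨2,2⟩,⟨2,0⟩; ⟨1,0⟩,⟨0,2⟩,⟨1,2⟩; ⟨1,1⟩,⟨0,2⟩,⟨0,2⟩]
/-- order 3 -/
def mX : Matrix (Fin 3) (Fin 3) K9 := !![⟨1,2⟩,⟨2,0⟩,⟨2,0⟩; ⟨1,0⟩,⟨1,2⟩,⟨0,2⟩; ⟨1,0⟩,⟨0,2⟩,⟨1,2⟩]
/-- its inverse -/
def mXi : Matrix (Fin 3) (Fin 3) K9 := !![⟨1,1⟩,⟨1,0⟩,⟨1,0⟩; ⟨2,0⟩,⟨1,1⟩,⟨0,1⟩; ⟨2,0⟩,⟨0,1⟩,⟨1,1⟩]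

theorem gU : IsGood mU := by decide +kernel
theorem gY : IsGood mY := by decide +kernel
theorem gX : IsGood mX := by decide +kernel

/-- the matrix of an element -/
def mh : Cfsg.SU 3 K9 3 →* Matrix (Fin 3) (Fin 3) K9 where
  toFun := mt
  map_one' := rfl
  map_mul' _ _ := rfl

theorem mh_inj : Function.Injective mh := fun _ _ h => su_ext h

theorem mh_U : mh gU.su = mU := rfl
theorem mh_Y : mh gY.su = mY := rfl
theorem mh_X : mh gX.su = mX := rfl

theorem mh_inv {a : Cfsg.SU 3 K9 3} {A B : Matrix (Fin 3) (Fin 3) K9} (h : mh a = A) (hAB : B * A = 1) :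
    mh a⁻¹ = B := by
  have h1 : mh a⁻¹ * mh a = 1 := by rw [← map_mul, inv_mul_cancel, map_one]
  have h2 : A * mh a⁻¹ = 1 := by rw [← h, ← map_mul, mul_inv_cancel, map_one]
  calc mh a⁻¹ = (B * A) * mh a⁻¹ := by rw [hAB, one_mul]
    _ = B := by rw [mul_assoc, h2, mul_one]

theorem mh_Ui : mh gU.su⁻¹ = mUi := mh_inv mh_U (by decide +kernel)
theorem mh_Yi : mh gY.su⁻¹ = mYi := mh_inv mh_Y (by decide +kernel)
theorem mh_Xi : mh gX.su⁻¹ = mXi := mh_inv mh_X (by decide +kernel)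

/-- `q` -/
def mQ : Matrix (Fin 3) (Fin 3) K9 := !![⟨0,1⟩,⟨0,1⟩,⟨2,1⟩; ⟨0,2⟩,⟨0,2⟩,⟨2,1⟩; ⟨1,2⟩,⟨2,1⟩,⟨0,0⟩]
/-- its inverse -/
def mQi : Matrix (Fin 3) (Fin 3) K9 := !![⟨0,2⟩,⟨0,1⟩,⟨1,1⟩; ⟨0,2⟩,⟨0,1⟩,⟨2,2⟩; ⟨2,2⟩,⟨2,2⟩,⟨0,0⟩]
/-- `w` -/
def mW : Matrix (Fin 3) (Fin 3) K9 := !![⟨2,1⟩,⟨1,0⟩,⟨2,0⟩; ⟨0,0⟩,⟨1,2⟩,⟨1,2⟩; ⟨2,2⟩,⟨0,2⟩,⟨0,1⟩]
/-- its inverse -/
def mWi : Matrix (Fin 3) (Fin 3) K9 := !![⟨2,2⟩,⟨0,0⟩,⟨2,1⟩; ⟨1,0⟩,⟨1,1⟩,⟨0,1⟩; ⟨2,0⟩,⟨1,1⟩,⟨0,2⟩]

theorem mh_Q : mh (gU.su⁻¹ * gX.su⁻¹ * gU.su⁻¹ ^ 3 * gX.su⁻¹ * gU.su⁻¹) = mQ := by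
  rw [map_mul, map_mul, map_mul, map_mul, map_pow, mh_Ui, mh_Xi]
  decide +kernel

theorem mh_Qi : mh (gU.su⁻¹ * gX.su⁻¹ * gU.su⁻¹ ^ 3 * gX.su⁻¹ * gU.su⁻¹)⁻¹ = mQi := mh_inv mh_Q (by decide +kernel)

theorem mh_W : mh (gU.su * gX.su * gU.su⁻¹ * gX.su⁻¹ * gU.su) = mW := by
  rw [map_mul, map_mul, map_mul, map_mul, mh_Ui, mh_Xi, mh_U, mh_X]
  decide +kernel

theorem mh_Wi : mh (gU.su * gX.su * gU.su⁻¹ * gX.su⁻¹ * gU.su)⁻¹ = mWi := mh_inv mh_W (by decide +kernel)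

/-- the triple in `SU₃(3)` -/
theorem trip_su : Trip gU.su gY.su gX.su where
  u7 := mh_inj (by rw [map_pow, mh_U, map_one]; decide +kernel)
  u1 h := by
    have h1 := congrArg mh h
    rw [mh_U, map_one] at h1
    revert h1
    decide +kernel
  y3 := mh_inj (by rw [map_pow, mh_Y, map_one]; decide +kernel)
  x3 := mh_inj (by rw [map_pow, mh_X, map_one]; decide +kernel)
  x1 h := by
    have h1 := congrArg mh h
    rw [mh_X, map_one] at h1
    revert h1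
    decide +kernel
  yu := mh_inj (by rw [map_mul, map_mul, map_pow, mh_Yi, mh_U, mh_Y]; decide +kernel)
  xy := mh_inj (by rw [map_mul, map_mul, mh_X, mh_Y]; decide +kernel)
  rel := mh_inj (by simp only [map_mul, map_pow, mh_Xi, mh_Ui, mh_X, mh_U]; decide +kernel)
  q3 := mh_inj (by rw [map_pow, mh_Q, map_one]; decide +kernel)
  qx := mh_inj (by simp only [map_mul, map_pow, mh_Qi, mh_Wi, mh_Xi, mh_Ui, mh_Yi, mh_X, mh_U, mh_Y]; decide +kernel)
  yq := mh_inj (by simp only [map_mul, map_pow, mh_Qi, mh_Wi, mh_Xi, mh_Ui, mh_Yi, mh_X, mh_U, mh_Y]; decide +kernel)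
  xw := mh_inj (by simp only [map_mul, map_pow, mh_Qi, mh_Wi, mh_Xi, mh_Ui, mh_Yi, mh_X, mh_U, mh_Y]; decide +kernel)
  yw := mh_inj (by simp only [map_mul, map_pow, mh_Qi, mh_Wi, mh_Xi, mh_Ui, mh_Yi, mh_X, mh_U, mh_Y]; decide +kernel)
  qw := mh_inj (by simp only [map_mul, map_pow, mh_Qi, mh_Wi, mh_Xi, mh_Ui, mh_Yi, mh_X, mh_U, mh_Y]; decide +kernel)

theorem w_eight : (gU.su * gX.su * gU.su⁻¹ * gX.su⁻¹ * gU.su) ^ 8 = 1 :=
  mh_inj (by rw [map_pow, mh_W, map_one]; decide +kernel)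

theorem w_four : ¬ (gU.su * gX.su * gU.su⁻¹ * gX.su⁻¹ * gU.su) ^ 4 * gY.su =
    gY.su * (gU.su * gX.su * gU.su⁻¹ * gX.su⁻¹ * gU.su) ^ 4 := by
  intro h
  have h1 := congrArg mh h
  rw [map_mul, map_mul, map_pow, mh_W, mh_Y] at h1
  revert h1
  decide +kernel

/-- the projection -/
abbrev pj : Cfsg.SU 3 K9 3 →* PSU 3 K9 3 := QuotientGroup.mk' (Subgroup.center (Cfsg.SU 3 K9 3))

theorem trip_psu : Trip (pj gU.su) (pj gY.su) (pj gX.su) := trip_center trip_su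

theorem w_order : orderOf (pj (gU.su * gX.su * gU.su⁻¹ * gX.su⁻¹ * gU.su)) = 8 := by
  have : Fact (Nat.Prime 2) := ⟨Nat.prime_two⟩
  have h := orderOf_eq_prime_pow (p := 2) (n := 2) (x := pj (gU.su * gX.su * gU.su⁻¹ * gX.su⁻¹ * gU.su)) ?_ ?_
  · rw [h]; norm_num
  · intro h1
    rw [← map_pow] at h1
    have h2 := (QuotientGroup.eq_one_iff _).1 h1
    exact w_four (Subgroup.mem_center_iff.1 h2 gY.su).symm
  · rw [← map_pow, show (2 : ℕ) ^ (2 + 1) = 8 by norm_num, w_eight, map_one]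

theorem closure_top : Subgroup.closure ({pj gU.su, pj gY.su, pj gX.su} : Set (PSU 3 K9 3)) = ⊤ := by
  have hs : IsSimpleGroup (PSU 3 K9 3) := S0283.result card_k9' 3 le_rfl (by norm_num)
  have hc : Nat.card (PSU 3 K9 3) = 6048 := SmallSimple.PSLFacts.card_psu_three_three card_k9
  have hfin : Finite (PSU 3 K9 3) := Nat.finite_of_card_ne_zero (by rw [hc]; norm_num)
  set H := Subgroup.closure ({pj gU.su, pj gY.su, pj gX.su} : Set (PSU 3 K9 3)) with hH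
  have hu : pj gU.su ∈ H := Subgroup.subset_closure (by simp)
  have hy : pj gY.su ∈ H := Subgroup.subset_closure (by simp)
  have hx : pj gX.su ∈ H := Subgroup.subset_closure (by simp)
  have h27 := trip_dvd trip_psu H hu hy hx
  have h7 : 7 ∣ Nat.card H := by
    have h1 : orderOf (pj gU.su) = 7 := by
      have : Fact (Nat.Prime 7) := ⟨by norm_num⟩
      exact orderOf_eq_prime trip_psu.u7 trip_psu.u1
    rw [← h1]
    exact Subgroup.orderOf_dvd_natCard H hu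
  have h8 : 8 ∣ Nat.card H := by
    rw [← w_order]
    refine Subgroup.orderOf_dvd_natCard H ?_
    rw [map_mul, map_mul, map_mul, map_mul, map_inv, map_inv]
    exact H.mul_mem (H.mul_mem (H.mul_mem (H.mul_mem hu hx) (H.inv_mem hu)) (H.inv_mem hx)) hu
  have h1512 : 1512 ∣ Nat.card H := by
    have e1 : 7 * 8 ∣ Nat.card H := Nat.Coprime.mul_dvd_of_dvd_of_dvd (by norm_num) h7 h8
    have e2 : 7 * 8 * 27 ∣ Nat.card H := Nat.Coprime.mul_dvd_of_dvd_of_dvd (by norm_num) e1 h27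
    exact e2
  by_contra hcon
  have h1 := Cfsg.Agent.H820.SL32.card_dvd_factorial H hcon
  have h2 := H.card_mul_index
  rw [hc] at h1 h2
  obtain ⟨k, hk⟩ := h1512
  have h3 : H.index ≤ 4 := by
    have h4 : 0 < k := by
      rcases Nat.eq_zero_or_pos k with h5 | h5
      · rw [hk, h5] at h2
        norm_num at h2
      · exact h5
    rw [hk] at h2
    by_contra h5
    push Not at h5
    have : 1512 * 1 * 5 ≤ 1512 * k * H.index := Nat.mul_le_mul (Nat.mul_le_mul_left _ h4) h5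
    omega
  have h4 : H.index.factorial ≤ Nat.factorial 4 := Nat.factorial_le h3
  have h5 := Nat.le_of_dvd (Nat.factorial_pos _) h1
  have h6 : Nat.factorial 4 = 24 := rfl
  omega

end mats

/-- **A1**: `U₃(3)` is generated by a triple -/
theorem exists_trip {K : Type*} [Group K] {F : Type*} [Field F] [Fintype F] (hF : Fintype.card F = 9)
    (h : Nonempty (K ≃* PSU 3 F 3)) : ∃ u y x : K, Trip u y x ∧ Subgroup.closure {u, y, x} = ⊤ := by
  obtain ⟨e⟩ := h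
  have hr : Nonempty (F ≃+* K9) := ⟨FiniteField.ringEquivOfCardEq (hF.trans card_k9.symm)⟩
  obtain ⟨r⟩ := hr
  let f : PSU 3 K9 3 ≃* K := (e.trans (LieClassical.FieldTransfer.psuCongr 3 3 r)).symm
  refine ⟨f (pj gU.su), f (pj gY.su), f (pj gX.su), trip_psu.map f.toMonoidHom f.injective, ?_⟩
  have h1 := congrArg (Subgroup.map f.toMonoidHom) closure_top
  rw [MonoidHom.map_closure, Subgroup.map_top_of_surjective _ f.surjective] at h1
  rw [← h1]
  congr 1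
  rw [Set.image_insert_eq, Set.image_insert_eq, Set.image_singleton]
  rfl

end Cfsg.Agent.H277.U33
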